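import Mathlib
import Cfsg.Agent.Lib.Helper23.HKKDefs
import Cfsg.Agent.Lib.Helper23.HKKExt

/-!
# S3782 (Alperin: bounded derived length), definitions (helper27)

Plan: `plans/S3782_plan.md`.  Namespace `Cfsg.Agent.Helper27.ALP`.
-/

set_option autoImplicit false
set_option linter.unusedSectionVars false
set_option linter.unusedVariables false

namespace Cfsg.Agent.Helper27.ALP

open Cfsg.Agent.Helper23.HKK

/-- Higman's number `h(p)` in the form of the HKK library: `lcsIn ⊤ (alpH p) = ⊥`, i.e. class `≤ alpH p` -/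
def alpH (p : ℕ) : ℕ := hk p (2 ^ (p - 1) - 1)

/-- bound for the logarithm of `|γ_w / γ_{w+1}|`, `w > alpH p` -/
def alpB (p n : ℕ) : ℕ := (alpH p + 1 + n) * (p * n)

/-- bound for the derived length of a `p`-group with `≤ p^n` fixed points -/
def alpA (p n : ℕ) : ℕ := alpB p n + (alpH p + 1)

/-- bound for the order of `G / O_{p',p}(G)` -/
def alpF (p n : ℕ) : ℕ := (p ^ (p * n)).factorial

/-- the final bound -/
def alpL (p n : ℕ) : ℕ := alpF p n + alpA p n + alpH p

theorem alpH_pos (p : ℕ) (hp : 2 ≤ p) : 1 ≤ alpH p := by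
  unfold alpH hk
  have h1 : 1 ≤ 2 ^ (p - 1) - 1 := by
    have : 2 ^ 1 ≤ 2 ^ (p - 1) := Nat.pow_le_pow_right (by norm_num) (by omega)
    omega
  calc 1 = ∑ i ∈ Finset.range 1, (p - 1) ^ i := by simp
    _ ≤ ∑ i ∈ Finset.range (2 ^ (p - 1) - 1), (p - 1) ^ i :=
        Finset.sum_le_sum_of_subset (by
          intro i hi
          rw [Finset.mem_range] at hi ⊢
          omega)

section grp

variable {G : Type*} [Group G]

/-- the subgroup of fixed points of an automorphism -/
def fixSub (α : MulAut G) : Subgroup G where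
  carrier := {g | α g = g}
  mul_mem' := by
    intro a b ha hb
    show α (a * b) = a * b
    rw [map_mul, ha, hb]
  one_mem' := map_one α
  inv_mem' := by
    intro a ha
    show α a⁻¹ = a⁻¹
    rw [map_inv, ha]

theorem mem_fixSub (α : MulAut G) (g : G) : g ∈ fixSub α ↔ α g = g := Iff.rfl

theorem card_fixSub (α : MulAut G) : Nat.card (fixSub α) = Nat.card {g : G // α g = g} := rfl

/-- invariance of a subgroup under an automorphism (in the `iff` form) -/
def Inv (α : MulAut G) (H : Subgroup G) : Prop := ∀ x, α x ∈ H ↔ x ∈ H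

theorem inv_of_char (α : MulAut G) (H : Subgroup G) [hH : H.Characteristic] : Inv α H := by
  intro x
  have h := Subgroup.characteristic_iff_comap_eq.mp hH α
  constructor
  · intro hx
    rw [← h]
    exact hx
  · intro hx
    rw [← h] at hx
    exact hx

theorem inv_map_eq (α : MulAut G) (H : Subgroup G) (hH : Inv α H) :
    H.map (α : G ≃* G).toMonoidHom = H := by
  ext y
  constructor
  · rintro ⟨x, hx, rfl⟩
    exact (hH x).2 hx
  · intro hy
    refine ⟨α.symm y, ?_, ?_⟩
    · apply (hH _).1
      show α (α.symm y) ∈ H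
      rw [MulEquiv.apply_symm_apply]
      exact hy
    · show α (α.symm y) = y
      exact MulEquiv.apply_symm_apply α y

/-- the restriction of an automorphism to an invariant subgroup -/
noncomputable def resAut (α : MulAut G) (H : Subgroup G) (hH : Inv α H) : MulAut ↥H :=
  ((α : G ≃* G).subgroupMap H).trans (MulEquiv.subgroupCongr (inv_map_eq α H hH))

theorem resAut_apply (α : MulAut G) (H : Subgroup G) (hH : Inv α H) (x : ↥H) :
    ((resAut α H hH x : ↥H) : G) = α (x : G) := rfl

/-- the automorphism induced on the quotient by an invariant normal subgroup -/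
noncomputable def quotAut (α : MulAut G) (N : Subgroup G) [N.Normal] (hN : Inv α N) : MulAut (G ⧸ N) :=
  QuotientGroup.congr N N α (inv_map_eq α N hN)

theorem quotAut_mk (α : MulAut G) (N : Subgroup G) [N.Normal] (hN : Inv α N) (x : G) :
    quotAut α N hN (QuotientGroup.mk x) = QuotientGroup.mk (α x) := rfl

end grp

section lie

variable (L : Type*) [LieRing L]

/-- the ideal of the elements killed by `E` -/
def torsI (E : ℕ) : LieIdeal ℤ L where
  carrier := {x | E • x = 0}
  add_mem' := by
    intro a b ha hb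
    show E • (a + b) = 0
    rw [smul_add, ha, hb, add_zero]
  zero_mem' := smul_zero E
  smul_mem' := by
    intro c x hx
    show E • (c • x) = 0
    rw [smul_comm, hx, smul_zero]
  lie_mem := by
    intro x m hm
    show E • ⁅x, m⁆ = 0
    rw [← lie_nsmul, hm, lie_zero]

theorem mem_torsI (E : ℕ) (x : L) : x ∈ torsI L E ↔ E • x = 0 := Iff.rfl

/-- the quotient map `L → L / torsI L E` as a homomorphism of Lie rings -/
def torsMk (E : ℕ) : L →ₗ⁅ℤ⁆ L ⧸ torsI L E :=
  { (LieSubmodule.Quotient.mk' (torsI L E) : L →ₗ[ℤ] L ⧸ torsI L E) with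
    map_lie' := fun {x y} => LieSubmodule.Quotient.mk_bracket (torsI L E) x y }

theorem torsMk_eq_zero (E : ℕ) (x : L) : torsMk L E x = 0 ↔ E • x = 0 :=
  LieSubmodule.Quotient.mk_eq_zero (N := torsI L E)

end lie

end Cfsg.Agent.Helper27.ALP
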