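import Mathlib
import Cfsg.Agent.Lib.ALP.ALPDefs

/-! S3782 piece ALP-G1: the general fixed-point inequality `|C_{A/B}(α)| ≤ |C_G(α)|`, in counting form
(NO hypothesis on `A`, `B`, `α`).
Proof: `D := {x | x ∈ A ∧ x⁻¹ * α x ∈ B}`, `f : D → B`, `f x = x⁻¹ * α x`.  If `f x = f y` then `y * x⁻¹ ∈ fixSub α`
(`α (y x⁻¹) = α y (α x)⁻¹ = y (y⁻¹ α y) (x⁻¹ α x)⁻¹ x⁻¹ = y x⁻¹`), so `y ↦ y * x⁻¹` injects each fibre into `fixSub α`:
every fibre has at most `|fixSub α|` elements.  Count: `Nat.card D ≤ Nat.card B * Nat.card (fixSub α)`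
(e.g. the map `D → B × fixSub α`, `y ↦ (f y, y * (r (f y))⁻¹)` with `r` a chosen element of the fibre, is injective;
`Nat.card_le_card_of_injective`, `Nat.card_prod`; all types are finite). -/

set_option autoImplicit false
set_option linter.unusedSectionVars false
set_option linter.unusedVariables false
set_option linter.style.haveILetI false

namespace Cfsg.Agent.Helper27.ALP

theorem card_twisted_le {G : Type*} [Group G] [Finite G] (α : MulAut G) (A B : Subgroup G) :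
    Nat.card {x : G // x ∈ A ∧ x⁻¹ * α x ∈ B} ≤ Nat.card B * Nat.card (fixSub α) := by
  classical
  haveI : Nonempty {x : G // x ∈ A ∧ x⁻¹ * α x ∈ B} :=
    ⟨⟨1, A.one_mem, by rw [map_one, inv_one, one_mul]; exact B.one_mem⟩⟩
  let f : {x : G // x ∈ A ∧ x⁻¹ * α x ∈ B} → ↥B := fun x => ⟨(x : G)⁻¹ * α (x : G), x.2.2⟩
  have hinv : ∀ y, f (Function.invFun f (f y)) = f y := fun y => Function.invFun_eq ⟨y, rfl⟩
  have hfix : ∀ x y : {x : G // x ∈ A ∧ x⁻¹ * α x ∈ B}, f x = f y →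
      (y : G) * (x : G)⁻¹ ∈ fixSub α := by
    intro x y hxy
    have h1 : (x : G)⁻¹ * α (x : G) = (y : G)⁻¹ * α (y : G) := congrArg Subtype.val hxy
    have h2 : α (x : G) = (x : G) * ((y : G)⁻¹ * α (y : G)) := by rw [← h1]; group
    show α ((y : G) * (x : G)⁻¹) = (y : G) * (x : G)⁻¹
    rw [map_mul, map_inv, h2]
    group
  rw [← Nat.card_prod]
  refine Nat.card_le_card_of_injective
    (fun y => ((f y, ⟨(y : G) * ((Function.invFun f (f y) : {x : G // x ∈ A ∧ x⁻¹ * α x ∈ B}) : G)⁻¹,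
      hfix _ y (hinv y)⟩) : ↥B × ↥(fixSub α))) ?_
  intro y y' h
  have h1 : f y = f y' := congrArg Prod.fst h
  have h2 := congrArg (fun z : ↥B × ↥(fixSub α) => ((z.2 : ↥(fixSub α)) : G)) h
  simp only at h2
  rw [h1] at h2
  apply Subtype.ext
  exact mul_right_cancel h2

end Cfsg.Agent.Helper27.ALP
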