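import Mathlib
import Cfsg.Agent.Lib.ALP.ALPDefs
import Cfsg.Agent.Lib.ALP.ALPG1
import Cfsg.Agent.Lib.Helper22.LCSLieNil

/-! S3782 piece ALP-G2: a fixed point of the map induced by `α` on `γ_w / γ_{w+1}` is killed by `p^n`
when `α` has at most `p^n` fixed points on the `p`-group `P`.
Proof: `a = grMk w x hx` (`grMk_surj`); fixed means `x⁻¹ * α x ∈ Gam P (w+1)` (`grMap_mk`, `grMk_eq_iff`, as in `grMap_fpf`,
Lib/Helper22/LCSLieNil.lean).  Let `p^j` be the additive order of `a` (a `p`-power: `Gr P w` is killed by `|P|`,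
`nsmul_lhom`/`pow_card_eq_one'`, or use `addOrderOf` dividing `Nat.card P = p^m`).  All `i • a` are fixed, so the
`p^j · |Gam P (w+1)|` elements `x^i * c` (`i < p^j`, `c ∈ Gam P (w+1)`) lie in `D = {y ∈ Gam P w | y⁻¹ α y ∈ Gam P (w+1)}`;
`card_twisted_le` (A := Gam P w, B := Gam P (w+1)) gives `p^j |Gam (w+1)| ≤ |Gam (w+1)| · |fixSub α| ≤ |Gam (w+1)| p^n`, so `j ≤ n`.
ALTERNATIVE: the fixed points `F` of `grMap α w` form an additive subgroup of the finite `p`-group `Gr P w`, `|F| · |Gam (w+1)| = |D|`,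
so `|F| ≤ p^n` is a `p`-power, hence divides `p^n`, and `|F| • a = 0`. -/

set_option autoImplicit false
set_option linter.unusedSectionVars false
set_option linter.unusedVariables false
set_option linter.style.haveILetI false

namespace Cfsg.Agent.Helper27.ALP

open Cfsg.Agent.Helper22.LCSLie

/-- multiples of a class -/
theorem alp_g2_nsmul_grMk {P : Type*} [Group P] (w : ℕ+) (k : ℕ) {x : P} (hx : x ∈ Gam P w) :
    k • grMk w x hx = grMk w (x ^ k) (pow_mem hx k) := by
  induction k with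
  | zero =>
    rw [zero_nsmul]
    exact ((grMk_congr w _ (pow_zero x)).trans (grMk_one w)).symm
  | succ k ih =>
    rw [succ_nsmul, ih, ← grMk_mul]
    exact grMk_congr w _ (pow_succ x k).symm

theorem grfix_tors {P : Type*} [Group P] [Finite P] {p : ℕ} [Fact p.Prime] (hP : IsPGroup p P)
    (α : MulAut P) (n : ℕ) (hfix : Nat.card (fixSub α) ≤ p ^ n) (w : ℕ+) (a : Gr P w)
    (ha : grMap α w a = a) : p ^ n • a = 0 := by
  classical
  have hp : p.Prime := Fact.out
  -- `Gr P w` is finite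
  haveI hfinGr : Finite (Gr P w) := by
    unfold Gr
    infer_instance
  -- `a` is killed by the order of `P`
  have hcard : Nat.card P • a = 0 := by
    obtain ⟨x, hx, rfl⟩ := grMk_surj w a
    rw [alp_g2_nsmul_grMk]
    exact (grMk_congr w _ (pow_card_eq_one' (G := P))).trans (grMk_one w)
  obtain ⟨m, hm⟩ := hP.exists_card_eq
  -- the additive order of `a`
  have hord : addOrderOf a ∣ p ^ m := by
    rw [← hm]
    exact addOrderOf_dvd_of_nsmul_eq_zero hcard
  obtain ⟨j, hjm, hj⟩ := (Nat.dvd_prime_pow hp).mp hord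
  -- every multiple of `a` is fixed
  have hfixZ : ∀ b ∈ AddSubgroup.zmultiples a, grMap α w b = b := by
    intro b hb
    obtain ⟨k, rfl⟩ := AddSubgroup.mem_zmultiples_iff.mp hb
    rw [map_zsmul, ha]
  -- representatives of fixed classes
  have hrep : ∀ b : Gr P w, grMap α w b = b →
      (grRep w b)⁻¹ * α (grRep w b) ∈ Gam P (w + 1) := by
    intro b hb
    have h1 : grMap α w (grMk w (grRep w b) (grRep_mem w b)) =
        grMk w (grRep w b) (grRep_mem w b) := by
      rw [grMk_grRep]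
      exact hb
    rw [grMap_mk, grMk_eq_iff] at h1
    have h2 := (Gam P (w + 1)).inv_mem h1
    unfold Cong at h1
    have h3 : ((α (grRep w b))⁻¹ * grRep w b)⁻¹ = (grRep w b)⁻¹ * α (grRep w b) := by group
    rw [← h3]
    exact (Gam P (w + 1)).inv_mem h1
  have hle : Gam P (w + 1) ≤ Gam P w := gam_anti (Nat.le_succ _)
  -- the injection
  have hmemD : ∀ (b : AddSubgroup.zmultiples a) (c : Gam P (w + 1)),
      grRep w b.1 * c.1 ∈ Gam P w ∧
        (grRep w b.1 * c.1)⁻¹ * α (grRep w b.1 * c.1) ∈ Gam P (w + 1) := by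
    intro b c
    refine ⟨mul_mem (grRep_mem w _) (hle c.2), ?_⟩
    have h1 := hrep b.1 (hfixZ b.1 b.2)
    have h2 : (grRep w b.1 * c.1)⁻¹ * α (grRep w b.1 * c.1) =
        c.1⁻¹ * ((grRep w b.1)⁻¹ * α (grRep w b.1)) * α c.1 := by
      rw [map_mul]
      group
    rw [h2]
    exact mul_mem (mul_mem (inv_mem c.2) h1) (gam_aut_mem α _ c.2)
  let f : (AddSubgroup.zmultiples a) × (Gam P (w + 1)) →
      {x : P // x ∈ Gam P w ∧ x⁻¹ * α x ∈ Gam P (w + 1)} :=
    fun bc => ⟨grRep w bc.1.1 * bc.2.1, hmemD bc.1 bc.2⟩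
  have hf : Function.Injective f := by
    rintro ⟨b, c⟩ ⟨b', c'⟩ h
    have h1 : grRep w b.1 * c.1 = grRep w b'.1 * c'.1 := congrArg Subtype.val h
    -- classes
    have hcl : ∀ (b : AddSubgroup.zmultiples a) (c : Gam P (w + 1)),
        grMk w (grRep w b.1 * c.1) (mul_mem (grRep_mem w _) (hle c.2)) = b.1 := by
      intro b c
      rw [grMk_mul w (grRep_mem w b.1) (hle c.2), grMk_grRep,
        (grMk_eq_zero_iff w (hle c.2)).mpr c.2, add_zero]
    have h2 : b.1 = b'.1 := by
      rw [← hcl b c, ← hcl b' c']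
      exact grMk_congr w _ h1
    have h3 : b = b' := Subtype.ext h2
    subst h3
    have h4 : c.1 = c'.1 := mul_left_cancel h1
    have h5 : c = c' := Subtype.ext h4
    rw [h5]
  have h1 := Nat.card_le_card_of_injective f hf
  rw [Nat.card_prod] at h1
  have h2 := card_twisted_le α (Gam P w) (Gam P (w + 1))
  have h3 : Nat.card (AddSubgroup.zmultiples a) * Nat.card (Gam P (w + 1)) ≤
      Nat.card (Gam P (w + 1)) * p ^ n :=
    h1.trans (h2.trans (Nat.mul_le_mul_left _ hfix))
  have hpos : 0 < Nat.card (Gam P (w + 1)) := Nat.card_pos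
  have h4 : Nat.card (AddSubgroup.zmultiples a) ≤ p ^ n := by
    rw [mul_comm] at h3
    exact Nat.le_of_mul_le_mul_left h3 hpos
  rw [Nat.card_zmultiples, hj] at h4
  have hjn : j ≤ n := (Nat.pow_le_pow_iff_right hp.one_lt).mp h4
  obtain ⟨d, rfl⟩ := Nat.exists_eq_add_of_le hjn
  rw [pow_add, mul_comm, mul_smul, ← hj, addOrderOf_nsmul_eq_zero, smul_zero]

end Cfsg.Agent.Helper27.ALP
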