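import Mathlib
import Cfsg.Agent.Lib.ALP.ALPDefs
import Cfsg.Agent.Lib.ALP.ALPG2
import Cfsg.Agent.Lib.Helper22.LCSLieNil

/-! S3782 piece ALP-G3: the fixed points of `lrHom α` on the Lie ring `LR P` are killed by `p^n`.
Proof: as in `lrHom_fpf` (Lib/Helper22/LCSLieNil.lean): `lrHom α a = a` gives `lringMap α (ofLR a) = ofLR a`, componentwise
(`DirectSum.map_apply`) `grMap α w (ofLR a w) = ofLR a w`, so `p^n • (ofLR a w) = 0` by `grfix_tors`; conclude with
`DFinsupp.ext` (`(p^n • b) w = p^n • b w`: `DFinsupp.smul_apply` / `DirectSum` API) and `toLR`/`ofLR` (additive equivalences, `map_nsmul`). -/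

set_option autoImplicit false
set_option linter.unusedSectionVars false
set_option linter.unusedVariables false
set_option linter.style.haveILetI false

namespace Cfsg.Agent.Helper27.ALP

open Cfsg.Agent.Helper22.LCSLie

theorem lrfix_tors {P : Type*} [Group P] [Finite P] {p : ℕ} [Fact p.Prime] (hP : IsPGroup p P)
    (α : MulAut P) (n : ℕ) (hfix : Nat.card (fixSub α) ≤ p ^ n) (a : LR P)
    (ha : lrHom α a = a) : p ^ n • a = 0 := by
  rw [lrHom_apply] at ha
  have h1 : lringMap α (ofLR a) = ofLR a := by
    have := congrArg ofLR ha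
    rwa [ofLR_toLR] at this
  have h2 : p ^ n • ofLR a = 0 := by
    refine DFinsupp.ext fun w => ?_
    have h3 := DFunLike.congr_fun h1 w
    unfold lringMap at h3
    rw [DirectSum.map_apply] at h3
    have h4 := grfix_tors hP α n hfix w _ h3
    rw [DFinsupp.smul_apply]
    exact h4
  have h5 := congrArg toLR h2
  rw [map_nsmul, toLR_ofLR, map_zero] at h5
  exact h5

end Cfsg.Agent.Helper27.ALP
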