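import Mathlib
import Cfsg.Agent.Lib.ALP.ALPDefs

/-! S3782 piece ALP-L3: a homomorphism of Lie rings maps `lcsIn N k` into `lcsIn (f N) k`; monotonicity of `lcsIn`.
Proofs: induction on `k` + `AddSubgroup.closure_induction`, `LieHom.map_lie`. -/

set_option autoImplicit false
set_option linter.unusedSectionVars false
set_option linter.unusedVariables false
set_option linter.style.haveILetI false

namespace Cfsg.Agent.Helper27.ALP

open Cfsg.Agent.Helper23.HKK

theorem lcsIn_map_mem {L L₂ : Type*} [LieRing L] [LieRing L₂] (f : L →ₗ⁅ℤ⁆ L₂) (N : AddSubgroup L) (k : ℕ) :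
    ∀ x ∈ lcsIn N k, f x ∈ lcsIn (N.map ((f : L →ₗ[ℤ] L₂) : L →+ L₂)) k := by
  induction k with
  | zero =>
    intro x hx
    show f x ∈ N.map ((f : L →ₗ[ℤ] L₂) : L →+ L₂)
    exact ⟨x, hx, rfl⟩
  | succ k ih =>
    intro x hx
    have hx' : x ∈ AddSubgroup.closure {z | ∃ x ∈ lcsIn N k, ∃ y ∈ N, z = ⁅x, y⁆} := hx
    refine AddSubgroup.closure_induction
      (p := fun x _ => f x ∈ lcsIn (N.map ((f : L →ₗ[ℤ] L₂) : L →+ L₂)) (k + 1)) ?_ ?_ ?_ ?_ hx'
    · rintro z ⟨a, ha, b, hb, rfl⟩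
      show f ⁅a, b⁆ ∈ AddSubgroup.closure _
      rw [LieHom.map_lie]
      exact AddSubgroup.subset_closure ⟨f a, ih a ha, f b, ⟨b, hb, rfl⟩, rfl⟩
    · show f 0 ∈ _
      rw [map_zero]
      exact zero_mem _
    · intro a b _ _ ha hb
      show f (a + b) ∈ _
      rw [map_add]
      exact add_mem ha hb
    · intro a _ ha
      show f (-a) ∈ _
      rw [map_neg]
      exact neg_mem ha

theorem lcsIn_mono {L : Type*} [LieRing L] {N N' : AddSubgroup L} (h : N ≤ N') (k : ℕ) :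
    lcsIn N k ≤ lcsIn N' k := by
  induction k with
  | zero => exact h
  | succ k ih =>
    show AddSubgroup.closure _ ≤ AddSubgroup.closure _
    apply AddSubgroup.closure_mono
    rintro z ⟨x, hx, y, hy, rfl⟩
    exact ⟨x, ih hx, y, h hy, rfl⟩

end Cfsg.Agent.Helper27.ALP
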