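import Mathlib
import Cfsg.Agent.Lib.ALP.ALPDefs
import Cfsg.Agent.Lib.Helper6.HKKTGR

/-! S3782 piece ALP-L1: the fixed points of `id ⊗ φ` on `ℤ[ω] ⊗ L` are killed by `E` if those of `φ` are.
Proof: copy of `grT_zero` (Lib/Helper6/HKKTGR.lean): `x = ∑ ω^i ⊗ f i` (`Lt_decomp`), `x` fixed gives
`∑ ω^i ⊗ (φ (f i) - f i) = 0`, so `φ (f i) = f i` (`Lt_indep`), so `E • f i = 0`, so
`E • x = ∑ ω^i ⊗ (E • f i) = 0` (`TensorProduct.tmul_smul` / `smul_tmul'`). -/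

set_option autoImplicit false
set_option linter.unusedSectionVars false
set_option linter.unusedVariables false
set_option linter.style.haveILetI false

namespace Cfsg.Agent.Helper27.ALP

open Cfsg.Agent.Helper23.HKK
open scoped TensorProduct

theorem fix_tors (p : ℕ) (hp : p.Prime) {L : Type*} [LieRing L] (φ : L →ₗ⁅ℤ⁆ L) (E : ℕ)
    (hE : ∀ x : L, φ x = x → E • x = 0) : ∀ x ∈ grT p φ 0, E • x = 0 := by
  have : NeZero p := ⟨hp.ne_zero⟩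
  have hp2 : 2 ≤ p := hp.two_le
  intro x hx
  rw [mem_grT, ZMod.val_zero, pow_zero, one_smul] at hx
  obtain ⟨f, hf⟩ := Lt_decomp p hp2 x
  have h1 : phiT p φ x = ∑ i : Fin (p - 1), ((ω p) ^ (i : ℕ)) ⊗ₜ[ℤ] φ (f i) := by
    rw [hf, map_sum]
    exact Finset.sum_congr rfl (fun i _ => phiT_tmul p φ _ _)
  have h2 : ∑ i : Fin (p - 1), ((ω p) ^ (i : ℕ)) ⊗ₜ[ℤ] (φ (f i) - f i) = (0 : Lt p L) := by
    have : ∀ i : Fin (p - 1), ((ω p) ^ (i : ℕ)) ⊗ₜ[ℤ] (φ (f i) - f i)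
        = ((ω p) ^ (i : ℕ)) ⊗ₜ[ℤ] φ (f i) - (((ω p) ^ (i : ℕ)) ⊗ₜ[ℤ] f i : Lt p L) :=
      fun i => TensorProduct.tmul_sub _ _ _
    rw [Finset.sum_congr rfl (fun i _ => this i), Finset.sum_sub_distrib, ← h1, ← hf, hx, sub_self]
  have h3 := Lt_indep p hp2 _ h2
  have h4 : ∀ i, ((E : ℕ) : ℤ) • f i = 0 := by
    intro i
    rw [Nat.cast_smul_eq_nsmul ℤ]
    exact hE _ (sub_eq_zero.mp (h3 i))
  rw [← Nat.cast_smul_eq_nsmul ℤ, hf, Finset.smul_sum]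
  refine Finset.sum_eq_zero (fun i _ => ?_)
  rw [← TensorProduct.tmul_smul, h4 i, TensorProduct.tmul_zero]

end Cfsg.Agent.Helper27.ALP
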