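import Mathlib
import Cfsg.Agent.Lib.ALP.ALPDefs
import Cfsg.Agent.Lib.Helper12.HKKKKM

/-! S3782 piece ALP-L2: Higman–Kreknin–Kostrikin for the SUBRING spanned by the components of a
`ℤ/p`-grading with zero `0`-component (no spanning of `L` is asked).
Proof: `N := ⨆ i, gr i`.  (1) `IsHomog gr N`.  (2) `N` is closed under the bracket.
(3) `dserIn N m ≤ ⨆ j, Dh gr m j` for all `m` (copy of `dser_le_Dh`).  (4) `Dh gr (2^(p-1)-1) j ≤ W gr (p-1) j = ⊥`
(`kreknin_C`, `krc_W_top`), so `dserIn N (2^(p-1)-1) = ⊥`.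
(5) `kk_main` gives `lcsIn N (hk p (2^(p-1)-1)) = ⊥`; `alpH` unfolds to it. -/

set_option autoImplicit false
set_option linter.unusedSectionVars false
set_option linter.unusedVariables false
set_option linter.style.haveILetI false

namespace Cfsg.Agent.Helper27.ALP

open Cfsg.Agent.Helper23.HKK

/-- `dser_le_Dh` with `⊤` replaced by the span of the components -/
theorem alp_l2_dser_le {n : ℕ} {L : Type*} [LieRing L] (gr : ZMod n → AddSubgroup L) (m : ℕ) :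
    dserIn (⨆ i, gr i) m ≤ ⨆ j, Dh gr m j := by
  induction m with
  | zero =>
    show (⨆ i, gr i) ≤ ⨆ j, gr j
    exact le_rfl
  | succ m ih =>
    show AddSubgroup.closure _ ≤ _
    rw [AddSubgroup.closure_le]
    rintro z ⟨x, hx, y, hy, rfl⟩
    have hx' := ih hx
    have hy' := ih hy
    show ⁅x, y⁆ ∈ ⨆ j, Dh gr (m + 1) j
    refine AddSubgroup.iSup_induction (C := fun x => ⁅x, y⁆ ∈ ⨆ j, Dh gr (m + 1) j) _ hx' ?_ ?_ ?_
    · intro a x hxa
      refine AddSubgroup.iSup_induction (C := fun y => ⁅x, y⁆ ∈ ⨆ j, Dh gr (m + 1) j) _ hy' ?_ ?_ ?_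
      · intro b y hyb
        apply AddSubgroup.mem_iSup_of_mem (a + b)
        show ⁅x, y⁆ ∈ AddSubgroup.closure _
        exact AddSubgroup.subset_closure ⟨a, b, rfl, x, hxa, y, hyb, rfl⟩
      · show ⁅x, (0 : L)⁆ ∈ _
        rw [lie_zero]; exact zero_mem _
      · intro y₁ y₂ h₁ h₂
        show ⁅x, y₁ + y₂⁆ ∈ _
        rw [lie_add]; exact add_mem h₁ h₂
    · show ⁅(0 : L), y⁆ ∈ _
      rw [zero_lie]; exact zero_mem _
    · intro x₁ x₂ h₁ h₂
      show ⁅x₁ + x₂, y⁆ ∈ _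
      rw [add_lie]; exact add_mem h₁ h₂

theorem hkk_sub {p : ℕ} (hp : p.Prime) {L : Type*} [LieRing L] (gr : ZMod p → AddSubgroup L)
    (hG : Grading p gr) : lcsIn (⨆ i, gr i) (alpH p) = ⊥ := by
  haveI : NeZero p := ⟨hp.ne_zero⟩
  have hNh : IsHomog gr (⨆ i, gr i) := by
    unfold IsHomog
    apply iSup_le
    intro i x hx
    exact AddSubgroup.subset_closure ⟨AddSubgroup.mem_iSup_of_mem i hx, i, hx⟩
  have hN : ∀ x ∈ (⨆ i, gr i), ∀ y ∈ (⨆ i, gr i), ⁅x, y⁆ ∈ (⨆ i, gr i) := by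
    intro x hx y hy
    refine AddSubgroup.iSup_induction (C := fun x => ⁅x, y⁆ ∈ ⨆ i, gr i) _ hx ?_ ?_ ?_
    · intro a x hxa
      refine AddSubgroup.iSup_induction (C := fun y => ⁅x, y⁆ ∈ ⨆ i, gr i) _ hy ?_ ?_ ?_
      · intro b y hyb
        exact AddSubgroup.mem_iSup_of_mem (a + b) (hG.br a b x y hxa hyb)
      · show ⁅x, (0 : L)⁆ ∈ _
        rw [lie_zero]; exact zero_mem _
      · intro y₁ y₂ h₁ h₂
        show ⁅x, y₁ + y₂⁆ ∈ _
        rw [lie_add]; exact add_mem h₁ h₂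
    · show ⁅(0 : L), y⁆ ∈ _
      rw [zero_lie]; exact zero_mem _
    · intro x₁ x₂ h₁ h₂
      show ⁅x₁ + x₂, y⁆ ∈ _
      rw [add_lie]; exact add_mem h₁ h₂
  have hd : dserIn (⨆ i, gr i) (2 ^ (p - 1) - 1) = ⊥ := by
    rw [eq_bot_iff]
    refine le_trans (alp_l2_dser_le gr _) ?_
    rw [iSup_le_iff]
    intro j
    have h1 := kreknin_C (L := L) p (p - 1) gr hG j
    rwa [krc_W_top] at h1
  exact kk_main hp gr hG (2 ^ (p - 1) - 1) (⨆ i, gr i) hNh hN hd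

end Cfsg.Agent.Helper27.ALP
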