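import Mathlib
import Cfsg.Agent.Lib.ALP.ALPDefs
import Cfsg.Agent.Lib.ALP.ALPL1
import Cfsg.Agent.Lib.ALP.ALPL2
import Cfsg.Agent.Lib.ALP.ALPL3
import Cfsg.Agent.Lib.Helper6.HKKTGR

/-! S3782 piece ALP-L4: `γ_{h+1}` of the span `M` of the eigenspaces is killed by `E`.
Proof: `T := torsI (Lt p L) E` (ALPDefs), `Q := Lt p L ⧸ T` (a Lie ring: `LieSubmodule.Quotient`),
`mk := LieSubmodule.Quotient.mk' T : Lt p L →ₗ⁅ℤ⁆ Q`; `gr' i := (grT p φ i).map mk` (as additive subgroups).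
`Grading p gr'`: `br` from `grT_br p hp φ` and `LieHom.map_lie`; `zero`: `x ∈ grT p φ 0` has `E • x = 0` (`fix_tors`),
i.e. `x ∈ T`, i.e. `mk x = 0` (`LieSubmodule.Quotient.mk_eq_zero`).  `hkk_sub` gives `lcsIn (⨆ i, gr' i) (alpH p) = ⊥`;
`(⨆ i, grT p φ i).map mk = ⨆ i, gr' i` (`AddSubgroup.map_iSup`); `lcsIn_map_mem` gives `mk z = 0`, so `z ∈ T`. -/

set_option autoImplicit false
set_option linter.unusedSectionVars false
set_option linter.unusedVariables false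
set_option linter.style.haveILetI false

namespace Cfsg.Agent.Helper27.ALP

open Cfsg.Agent.Helper23.HKK

theorem lcsIn_tors (p : ℕ) (hp : p.Prime) {L : Type*} [LieRing L] (φ : L →ₗ⁅ℤ⁆ L) (E : ℕ)
    (hE : ∀ x : L, φ x = x → E • x = 0) :
    ∀ z ∈ lcsIn (⨆ i, grT p φ i) (alpH p), E • z = 0 := by
  intro z hz
  let mk := torsMk (Lt p L) E
  let gr' : ZMod p → AddSubgroup (Lt p L ⧸ torsI (Lt p L) E) :=
    fun i => (grT p φ i).map ((mk : Lt p L →ₗ[ℤ] (Lt p L ⧸ torsI (Lt p L) E)) : Lt p L →+ _)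
  have hG : Grading p gr' := by
    constructor
    · rintro i j _ _ ⟨x, hx, rfl⟩ ⟨y, hy, rfl⟩
      refine ⟨⁅x, y⁆, grT_br p hp φ i j x y hx hy, ?_⟩
      exact LieHom.map_lie mk x y
    · rw [eq_bot_iff]
      rintro _ ⟨x, hx, rfl⟩
      have h1 := fix_tors p hp φ E hE x hx
      rw [AddSubgroup.mem_bot]
      exact (torsMk_eq_zero _ E x).2 h1
  have h2 := hkk_sub hp gr' hG
  have h3 := lcsIn_map_mem mk _ _ z hz
  rw [AddSubgroup.map_iSup] at h3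
  rw [h2, AddSubgroup.mem_bot] at h3
  exact (torsMk_eq_zero _ E z).1 h3

end Cfsg.Agent.Helper27.ALP
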