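import Mathlib
import Cfsg.Agent.Lib.ALP.ALPDefs

/-! S3782 piece ALP-L5: if `p • L ⊆ M` then `p^(k+1) • γ_{k+1}(L) ⊆ γ_{k+1}(M)` (in the `lcsIn` indexing).
Proof: induction on `k`; `k = 0`: `p^1 • z = p • z ∈ M`.  Step: `AddSubgroup.closure_induction` on
`z ∈ lcsIn ⊤ (k+1)`: generator `⁅x, y⁆`: `p^(k+2) • ⁅x, y⁆ = ⁅p^(k+1) • x, p • y⁆` (`nsmul_lie`, `lie_nsmul`, `pow_succ`,
`mul_smul`/`mul_nsmul`), a generator of `lcsIn M (k+1)`; `smul_add`, `smul_neg`, `smul_zero` for the rest. -/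

set_option autoImplicit false
set_option linter.unusedSectionVars false
set_option linter.unusedVariables false
set_option linter.style.haveILetI false

namespace Cfsg.Agent.Helper27.ALP

open Cfsg.Agent.Helper23.HKK

theorem pow_smul_mem {L : Type*} [LieRing L] (p : ℕ) (M : AddSubgroup L) (hM : ∀ x : L, p • x ∈ M) :
    ∀ k : ℕ, ∀ z ∈ lcsIn (⊤ : AddSubgroup L) k, p ^ (k + 1) • z ∈ lcsIn M k := by
  intro k
  induction k with
  | zero =>
    intro z _
    show p ^ (0 + 1) • z ∈ M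
    rw [zero_add, pow_one]
    exact hM z
  | succ k ih =>
    intro z hz
    have hz' : z ∈ AddSubgroup.closure
        {z | ∃ x ∈ lcsIn (⊤ : AddSubgroup L) k, ∃ y ∈ (⊤ : AddSubgroup L), z = ⁅x, y⁆} := hz
    clear hz
    show p ^ (k + 1 + 1) • z ∈ AddSubgroup.closure
        {z | ∃ x ∈ lcsIn M k, ∃ y ∈ M, z = ⁅x, y⁆}
    induction hz' using AddSubgroup.closure_induction with
    | mem w hw =>
      obtain ⟨x, hx, y, _, rfl⟩ := hw
      have e : p ^ (k + 1 + 1) • ⁅x, y⁆ = ⁅p ^ (k + 1) • x, p • y⁆ := by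
        rw [nsmul_lie, lie_nsmul, smul_smul, ← pow_succ]
      rw [e]
      exact AddSubgroup.subset_closure ⟨_, ih x hx, _, hM y, rfl⟩
    | zero =>
      rw [smul_zero]
      exact AddSubgroup.zero_mem _
    | add a b _ _ ha hb =>
      rw [smul_add]
      exact AddSubgroup.add_mem _ ha hb
    | neg a _ ha =>
      rw [smul_neg]
      exact AddSubgroup.neg_mem _ ha

end Cfsg.Agent.Helper27.ALP
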