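import Mathlib
import Cfsg.Agent.Lib.ALP.ALPDefs
import Cfsg.Agent.Lib.Helper2.HKKTSP

/-! S3782 piece ALP-L6: `p • x` lies in the span of the eigenspaces.
Proof: `p • x = ∑ k ∈ range p, tsp_rho p φ k x` (`tsp_rho_sum p hp φ (omega_orth p hp) x`, Lib/Helper2/HKKTSPCore.lean)
and `tsp_rho p φ k x ∈ grT p φ _` (`tsp_rho_mem p hp φ (omega_pow p hp.pos) (phiT_tmul p φ) (phiT_smul p φ) hφp k _ x`);
`AddSubgroup.sum_mem`, `AddSubgroup.mem_iSup_of_mem` (as in `grT_span_core`). -/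

set_option autoImplicit false
set_option linter.unusedSectionVars false
set_option linter.unusedVariables false
set_option linter.style.haveILetI false

namespace Cfsg.Agent.Helper27.ALP

open Cfsg.Agent.Helper23.HKK

theorem p_smul_mem_span (p : ℕ) (hp : p.Prime) {L : Type*} [LieRing L] (φ : L →ₗ⁅ℤ⁆ L)
    (hφp : ∀ x, (⇑φ)^[p] x = x) : ∀ x : Lt p L, p • x ∈ ⨆ i, grT p φ i := by
  intro x
  rw [← tsp_rho_sum p hp φ (omega_orth p hp) x]
  apply AddSubgroup.sum_mem
  intro k hk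
  have hk' : k ≤ p := le_of_lt (Finset.mem_range.mp hk)
  exact AddSubgroup.mem_iSup_of_mem _
    (tsp_rho_mem p hp φ (omega_pow p hp.pos) (phiT_tmul p φ) (phiT_smul p φ) hφp k hk' x)

end Cfsg.Agent.Helper27.ALP
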