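import Mathlib
import Cfsg.Agent.Lib.ALP.ALPDefs
import Cfsg.Agent.Lib.ALP.ALPL3
import Cfsg.Agent.Lib.ALP.ALPL4
import Cfsg.Agent.Lib.ALP.ALPL5
import Cfsg.Agent.Lib.ALP.ALPL6
import Cfsg.Agent.Lib.Helper2.HKKTPB

/-! S3782 piece ALP-LIE (assembly of part L): the Lie ring theorem.
`φ^p = 1` and `E • C_L(φ) = 0`  ⟹  `p^(h+1) E • γ_{h+1}(L) = 0`, `h = alpH p`. -/

set_option autoImplicit false
set_option linter.unusedSectionVars false
set_option linter.unusedVariables false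
set_option linter.style.haveILetI false

namespace Cfsg.Agent.Helper27.ALP

open Cfsg.Agent.Helper23.HKK

theorem alp_lie (p : ℕ) (hp : p.Prime) {L : Type*} [LieRing L] (φ : L →ₗ⁅ℤ⁆ L)
    (hφp : ∀ x, (⇑φ)^[p] x = x) (E : ℕ) (hE : ∀ x : L, φ x = x → E • x = 0) :
    ∀ z ∈ lcsIn (⊤ : AddSubgroup L) (alpH p), (p ^ (alpH p + 1) * E) • z = 0 := by
  intro z hz
  have hp2 : 2 ≤ p := hp.two_le
  have hM := p_smul_mem_span p hp φ hφp
  have h1 : incT p z ∈ lcsIn (⊤ : AddSubgroup (Lt p L)) (alpH p) := tpb_incT_mem p (alpH p) z hz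
  have h2 := pow_smul_mem p (⨆ i, grT p φ i) hM (alpH p) _ h1
  have h3 := lcsIn_tors p hp φ E hE _ h2
  apply incT_inj p hp2
  rw [map_zero, map_nsmul, mul_comm, mul_smul]
  exact h3

end Cfsg.Agent.Helper27.ALP
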