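import Mathlib
import Cfsg.Agent.Lib.ALP.ALPDefs
import Cfsg.Agent.Lib.ALP.ALPG3
import Cfsg.Agent.Lib.ALP.ALPLie
import Cfsg.Agent.Lib.Helper22.LCSLieNil
import Cfsg.Agent.Lib.Helper23.HKKBridge

/-! S3782 piece ALP-G4: for `w > alpH p` the section `γ_w / γ_{w+1}` of `P` has exponent dividing `p^(alpH p + 1 + n)`.
Proof: `w ≥ 1`, put `w' : ℕ+ := ⟨w, _⟩`.  `lhom w' x hx ∈ LieModule.lowerCentralSeries ℤ (LR P) (LR P) w'.natPred`
(`gam_le_lcsSub`), `w'.natPred = w - 1 ≥ alpH p`, `LieModule.antitone_lowerCentralSeries` and `bridge_le`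
(Lib/Helper23/HKKBridge.lean) give `lhom w' x hx ∈ lcsIn ⊤ (alpH p)`.  `alp_lie p hp (lrHom α) _ (p^n) (lrfix_tors hP α n hfix)`
with `(⇑(lrHom α))^[p] a = a` from `lrHom_pow_apply`, `hα`, `lrHom_one_apply` (as in `main_group`, Lib/Helper23/HKKMain.lean)
gives `(p^(alpH p+1) * p^n) • lhom w' x hx = 0`; `nsmul_lhom` and `lhom_eq_zero_iff` turn this into
`x ^ (p^(alpH p+1) * p^n) ∈ Gam P (w+1)`; `pow_add`. -/

set_option autoImplicit false
set_option linter.unusedSectionVars false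
set_option linter.unusedVariables false
set_option linter.style.haveILetI false

namespace Cfsg.Agent.Helper27.ALP

open Cfsg.Agent.Helper22.LCSLie Cfsg.Agent.Helper23.HKK

theorem pow_mem_gam {P : Type*} [Group P] [Finite P] {p : ℕ} [Fact p.Prime] (hP : IsPGroup p P)
    (α : MulAut P) (hα : α ^ p = 1) (n : ℕ) (hfix : Nat.card (fixSub α) ≤ p ^ n) (w : ℕ)
    (hw : alpH p + 1 ≤ w) (x : P) (hx : x ∈ Cfsg.Agent.Helper22.LCSLie.Gam P w) :
    x ^ (p ^ (alpH p + 1 + n)) ∈ Cfsg.Agent.Helper22.LCSLie.Gam P (w + 1) := by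
  have hp : p.Prime := Fact.out
  have hwpos : 0 < w := by omega
  obtain ⟨w', hw'⟩ : ∃ w' : ℕ+, (w' : ℕ) = w := ⟨⟨w, hwpos⟩, rfl⟩
  subst hw'
  obtain ⟨_, h1⟩ := gam_le_lcsSub w' hx
  have hpred : alpH p ≤ w'.natPred := by
    have := PNat.natPred_add_one w'
    omega
  have h2 : lhom w' x hx ∈ LieModule.lowerCentralSeries ℤ (LR P) (LR P) (alpH p) :=
    LieModule.antitone_lowerCentralSeries ℤ (LR P) (LR P) hpred h1
  have h3 : lhom w' x hx ∈ lcsIn (⊤ : AddSubgroup (LR P)) (alpH p) := bridge_le _ _ h2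
  have hφp : ∀ a : LR P, (⇑(lrHom α))^[p] a = a := by
    intro a
    rw [← lrHom_pow_apply α p a, hα, lrHom_one_apply]
  have h4 := alp_lie p hp (lrHom α) hφp (p ^ n) (lrfix_tors hP α n hfix) _ h3
  rw [nsmul_lhom] at h4
  have h5 := (lhom_eq_zero_iff _).1 h4
  rw [pow_add]
  exact h5

end Cfsg.Agent.Helper27.ALP
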