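import Mathlib
import Cfsg.Agent.Lib.ALP.ALPDefs

/-! S3782 piece ALP-R1: a finite abelian group generated by `S` and of exponent dividing `E` has order `≤ E^|S|`.
Proof: the map `(S → Fin E) → V`, `f ↦ ∏ s ∈ S.attach, (s : V) ^ (f s : ℕ)` is surjective: its range contains `1`, every `s ∈ S`,
and is closed under products and inverses (exponents mod `E`, `v⁻¹ = v^(E-1)`), so it contains `closure S = ⊤`
(`Subgroup.closure_induction`); `Nat.card_le_card_of_surjective`/`Finite.card_le_of_surjective`, `Nat.card_fun`/`Fintype.card_fun`, `Fintype.card_fin`.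
ALTERNATIVE: induction on `S` (`Finset.induction_on`) for the statement `Nat.card (closure S) ≤ E^|S|` using
`closure (insert a S) = zpowers a ⊔ closure S` and `Subgroup.card_mul_le`-type bounds (`|HK| ≤ |H||K|`), `orderOf a ≤ E`. -/

set_option autoImplicit false
set_option linter.unusedSectionVars false
set_option linter.unusedVariables false
set_option linter.style.haveILetI false

namespace Cfsg.Agent.Helper27.ALP

theorem alp_r1_sup_card_le {V : Type*} [CommGroup V] [Finite V] (H K : Subgroup V) :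
    Nat.card ↥(H ⊔ K) ≤ Nat.card ↥H * Nat.card ↥K := by
  rw [← Nat.card_prod]
  refine Nat.card_le_card_of_surjective
    (fun p : ↥H × ↥K => (⟨(p.1 : V) * (p.2 : V),
      Subgroup.mul_mem _ (Subgroup.mem_sup_left p.1.2) (Subgroup.mem_sup_right p.2.2)⟩ : ↥(H ⊔ K))) ?_
  rintro ⟨x, hx⟩
  obtain ⟨y, hy, z, hz, rfl⟩ := Subgroup.mem_sup.mp hx
  exact ⟨(⟨y, hy⟩, ⟨z, hz⟩), rfl⟩

theorem alp_r1_closure_card_le {V : Type*} [CommGroup V] [Finite V] (E : ℕ) (hE0 : 0 < E)
    (hE : ∀ v : V, v ^ E = 1) (S : Finset V) :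
    Nat.card ↥(Subgroup.closure (S : Set V)) ≤ E ^ S.card := by
  classical
  induction S using Finset.induction_on with
  | empty =>
    rw [Finset.coe_empty, Subgroup.closure_empty, Subgroup.card_bot, Finset.card_empty, pow_zero]
  | insert a S ha ih =>
    rw [Finset.coe_insert, Set.insert_eq, Subgroup.closure_union, ← Subgroup.zpowers_eq_closure,
      Finset.card_insert_of_notMem ha, pow_succ']
    refine le_trans (alp_r1_sup_card_le _ _) ?_
    have h1 : Nat.card ↥(Subgroup.zpowers a) ≤ E := by
      rw [Nat.card_zpowers]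
      exact Nat.le_of_dvd hE0 (orderOf_dvd_of_pow_eq_one (hE a))
    exact Nat.mul_le_mul h1 ih

theorem card_le_of_gen {V : Type*} [CommGroup V] [Finite V] (S : Finset V)
    (hS : Subgroup.closure (S : Set V) = ⊤) (E : ℕ) (hE0 : 0 < E) (hE : ∀ v : V, v ^ E = 1) :
    Nat.card V ≤ E ^ S.card := by
  have h := alp_r1_closure_card_le E hE0 hE S
  rw [hS, Subgroup.card_top] at h
  exact h

end Cfsg.Agent.Helper27.ALP
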