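import Mathlib
import Cfsg.Agent.Lib.ALP.ALPDefs

/-! S3782 piece ALP-T1: the restriction `resAut α H hH` (ALPDefs; `resAut_apply : ((resAut α H hH x : ↥H) : G) = α x`):
powers and fixed points.  `resAut_pow_apply` by induction on `k` (`pow_succ`, `MulAut.mul_apply`, `resAut_apply`);
the fixed points of the restriction inject into those of `α` via `x ↦ (x : G)` (`Nat.card_le_card_of_injective`). -/

set_option autoImplicit false
set_option linter.unusedSectionVars false
set_option linter.unusedVariables false
set_option linter.style.haveILetI false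

namespace Cfsg.Agent.Helper27.ALP

variable {G : Type*} [Group G]

theorem resAut_pow_apply (α : MulAut G) (H : Subgroup G) (hH : Inv α H) (k : ℕ) (x : ↥H) :
    ((((resAut α H hH) ^ k) x : ↥H) : G) = (α ^ k) (x : G) := by
  induction k generalizing x with
  | zero => simp
  | succ k ih =>
    rw [pow_succ, pow_succ, MulAut.mul_apply, MulAut.mul_apply, ih, resAut_apply]

theorem resAut_pow_eq_one (α : MulAut G) (H : Subgroup G) (hH : Inv α H) (k : ℕ) (h : α ^ k = 1) :
    (resAut α H hH) ^ k = 1 := by
  apply MulEquiv.ext
  intro x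
  apply Subtype.ext
  rw [resAut_pow_apply, h]
  rfl

theorem card_fix_resAut_le [Finite G] (α : MulAut G) (H : Subgroup G) (hH : Inv α H) :
    Nat.card (fixSub (resAut α H hH)) ≤ Nat.card (fixSub α) := by
  refine Nat.card_le_card_of_injective
    (fun x : ↥(fixSub (resAut α H hH)) => (⟨((x : ↥H) : G), ?_⟩ : ↥(fixSub α))) ?_
  · have hx : resAut α H hH (x : ↥H) = (x : ↥H) := x.2
    have h2 := congrArg (Subtype.val) hx
    rw [resAut_apply] at h2
    exact h2
  · intro x y hxy
    have h1 : ((x : ↥H) : G) = ((y : ↥H) : G) := congrArg (fun z : ↥(fixSub α) => (z : G)) hxy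
    exact Subtype.ext (Subtype.ext h1)

end Cfsg.Agent.Helper27.ALP
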