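import Mathlib
import Cfsg.Agent.Lib.ALP.ALPDefs
import Cfsg.Agent.Lib.ALP.ALPG1

/-! S3782 piece ALP-T2: the induced automorphism `quotAut α N hN` (ALPDefs; `quotAut_mk : quotAut α N hN (mk x) = mk (α x)`):
powers and fixed points.  `quotAut_pow_mk` by induction on `k`.  Fixed points: `F := fixSub (quotAut α N hN)`, its preimage
`D := F.comap (QuotientGroup.mk' N) = {x | x⁻¹ * α x ∈ N}` (`QuotientGroup.eq`) has `|D| = |F| · |N|`
(e.g. `Subgroup.card_eq_card_quotient_mul_card_subgroup` for `N.subgroupOf D`, or `Subgroup.index_comap_of_surjective`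
+ `Subgroup.card_mul_index`); `card_twisted_le α ⊤ N` gives `|D| ≤ |N| · |fixSub α|`; cancel `|N| > 0`. -/

set_option autoImplicit false
set_option linter.unusedSectionVars false
set_option linter.unusedVariables false
set_option linter.style.haveILetI false

namespace Cfsg.Agent.Helper27.ALP

variable {G : Type*} [Group G]

theorem quotAut_pow_mk (α : MulAut G) (N : Subgroup G) [N.Normal] (hN : Inv α N) (k : ℕ) (x : G) :
    ((quotAut α N hN) ^ k) (QuotientGroup.mk x) = QuotientGroup.mk ((α ^ k) x) := by
  induction k generalizing x with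
  | zero => simp
  | succ k ih =>
    rw [pow_succ, pow_succ, MulAut.mul_apply, MulAut.mul_apply, quotAut_mk, ih]

theorem quotAut_pow_eq_one (α : MulAut G) (N : Subgroup G) [N.Normal] (hN : Inv α N) (k : ℕ)
    (h : α ^ k = 1) : (quotAut α N hN) ^ k = 1 := by
  apply MulEquiv.ext
  intro y
  induction y using QuotientGroup.induction_on with
  | H x =>
    rw [quotAut_pow_mk, h]
    rfl

theorem card_fix_quotAut_le [Finite G] (α : MulAut G) (N : Subgroup G) [N.Normal] (hN : Inv α N) :
    Nat.card (fixSub (quotAut α N hN)) ≤ Nat.card (fixSub α) := by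
  classical
  set F := fixSub (quotAut α N hN) with hF
  set D := F.comap (QuotientGroup.mk' N) with hD
  have hmemD : ∀ x : G, x ∈ D ↔ x⁻¹ * α x ∈ N := by
    intro x
    rw [hD, Subgroup.mem_comap, hF, mem_fixSub, QuotientGroup.mk'_apply, quotAut_mk]
    constructor
    · intro hx
      have h1 : ((x : G) : G ⧸ N) = ((α x : G) : G ⧸ N) := hx.symm
      exact (QuotientGroup.eq).1 h1
    · intro hx
      exact ((QuotientGroup.eq).2 hx).symm
  -- card D = card F * card N
  have hcardD : Nat.card D = Nat.card F * Nat.card N := by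
    have h1 : D.index = F.index :=
      Subgroup.index_comap_of_surjective F (QuotientGroup.mk'_surjective N)
    have h2 := Subgroup.card_mul_index D
    have h3 := Subgroup.card_mul_index F
    have h4 := Subgroup.card_eq_card_quotient_mul_card_subgroup N
    rw [h1] at h2
    have hidx : 0 < F.index := Nat.pos_of_ne_zero Subgroup.index_ne_zero_of_finite
    have h5 : Nat.card D * F.index = (Nat.card F * Nat.card N) * F.index := by
      rw [h2, h4, ← h3]; ring
    exact Nat.eq_of_mul_eq_mul_right hidx h5
  -- card D ≤ card N * card (fixSub α)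
  have hle : Nat.card D ≤ Nat.card N * Nat.card (fixSub α) := by
    have h1 := card_twisted_le α (⊤ : Subgroup G) N
    have h2 : Nat.card D = Nat.card {x : G // x ∈ (⊤ : Subgroup G) ∧ x⁻¹ * α x ∈ N} := by
      apply Nat.card_congr
      refine ⟨fun x => ⟨(x : G), Subgroup.mem_top _, (hmemD _).1 x.2⟩,
        fun x => ⟨(x : G), (hmemD _).2 x.2.2⟩, ?_, ?_⟩
      · intro x; rfl
      · intro x; rfl
    rw [h2]
    exact h1
  have hNpos : 0 < Nat.card N := Nat.card_pos
  rw [hcardD] at hle
  have h6 : Nat.card N * Nat.card F ≤ Nat.card N * Nat.card (fixSub α) := by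
    rw [mul_comm (Nat.card N) (Nat.card F)]; exact hle
  exact Nat.le_of_mul_le_mul_left h6 hNpos

end Cfsg.Agent.Helper27.ALP
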