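import Mathlib
import Cfsg.Agent.Lib.ALP.ALPDefs
import Cfsg.Agent.Lib.ALP.ALPT1
import Cfsg.Agent.Lib.ALP.ALPT2
import Cfsg.Agent.Lib.ALP.ALPR1
import Cfsg.Agent.S3780

/-! S3782 piece ALP-R2 (size L): the order of an abelian invariant section `A/M` of exponent dividing `E`.
Proof: `α₁ := resAut α A hA : MulAut ↥A`, `M₁ := M.subgroupOf A` (normal in `↥A` since `M` is normal in `P`; `Inv α₁ M₁` from `hM`,
`resAut_apply`, `Subgroup.mem_subgroupOf`), `V := ↥A ⧸ M₁`, `β := quotAut α₁ M₁ _ : MulAut V`; `Nat.card V = M.relIndex A` (`Subgroup.relIndex`,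
`Subgroup.index_eq_card`).  `V` is commutative by `hab` (build `CommGroup V := { (inferInstance : Group V) with mul_comm := _ }`,
`QuotientGroup.induction_on`, `QuotientGroup.eq`), a `p`-group (`hP.to_subgroup`, `IsPGroup.to_quotient`), of exponent dividing `E` (`hE`).
`β ^ p = 1` (`resAut_pow_eq_one`, `quotAut_pow_eq_one`); `Nat.card (fixSub β) ≤ p^n` (`card_fix_quotAut_le`, `card_fix_resAut_le`, `hfix`).
If `Nat.card V = 1` done (`Nat.one_le_pow`).  Else `p ∣ E` (an element `v ≠ 1` has order a nontrivial `p`-power dividing `E`), so `p ≤ E`.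
Case `β = 1`: `fixSub β = ⊤`, so `Nat.card V ≤ p^n ≤ E^(p*n)`.  Case `β ≠ 1`: `orderOf β = p` (`orderOf_eq_prime`);
`Nat.card (fixSub β) = p^n'` (`IsPGroup.iff_card` for the subgroup) with `n' ≤ n` (`Nat.pow_le_pow_iff_right`);
`Cfsg.Agent.S3780.result hV β hβ n' (card_fixSub β ▸ _)` gives `S` with `S.card ≤ p * n'` and `closure S = ⊤`;
`card_le_of_gen` gives `Nat.card V ≤ E^S.card ≤ E^(p*n)` (`Nat.pow_le_pow_right hE0`). -/

set_option autoImplicit false
set_option linter.unusedSectionVars false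
set_option linter.unusedVariables false
set_option linter.style.haveILetI false

namespace Cfsg.Agent.Helper27.ALP

open scoped commutatorElement

theorem section_card_le {P : Type*} [Group P] [Finite P] {p : ℕ} [Fact p.Prime] (hP : IsPGroup p P)
    (α : MulAut P) (hα : α ^ p = 1) (n : ℕ) (hfix : Nat.card (fixSub α) ≤ p ^ n)
    (A M : Subgroup P) [M.Normal] (hMA : M ≤ A) (hA : Inv α A) (hM : Inv α M)
    (hab : ⁅A, A⁆ ≤ M) (E : ℕ) (hE0 : 0 < E) (hE : ∀ x ∈ A, x ^ E ∈ M) :
    M.relIndex A ≤ E ^ (p * n) := by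
  classical
  have hpp : p.Prime := Fact.out
  have hM₁ : Inv (resAut α A hA) (M.subgroupOf A) := by
    intro x
    rw [Subgroup.mem_subgroupOf, Subgroup.mem_subgroupOf, resAut_apply]
    exact hM (x : P)
  have hcardV : Nat.card (↥A ⧸ M.subgroupOf A) = M.relIndex A := by
    rw [Subgroup.relIndex, Subgroup.index_eq_card]
  rw [← hcardV]
  have hcomm : ∀ a b : ↥A ⧸ M.subgroupOf A, a * b = b * a := by
    intro a b
    induction a using QuotientGroup.induction_on with
    | H a =>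
      induction b using QuotientGroup.induction_on with
      | H b =>
        rw [← QuotientGroup.mk_mul, ← QuotientGroup.mk_mul, QuotientGroup.eq, Subgroup.mem_subgroupOf]
        apply hab
        have h1 : ((a * b)⁻¹ * (b * a) : ↥A) = (⁅(b⁻¹ : ↥A), (a⁻¹ : ↥A)⁆ : ↥A) := by
          rw [commutatorElement_def]; group
        rw [h1]
        have h2 : ((⁅(b⁻¹ : ↥A), (a⁻¹ : ↥A)⁆ : ↥A) : P) = ⁅((b⁻¹ : ↥A) : P), ((a⁻¹ : ↥A) : P)⁆ := by
          simp [commutatorElement_def]
        rw [h2]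
        exact Subgroup.commutator_mem_commutator (b⁻¹).2 (a⁻¹).2
  letI instC : CommGroup (↥A ⧸ M.subgroupOf A) :=
    { (inferInstance : Group (↥A ⧸ M.subgroupOf A)) with mul_comm := hcomm }
  have hV : IsPGroup p (↥A ⧸ M.subgroupOf A) := (hP.to_subgroup A).to_quotient (M.subgroupOf A)
  have hexp : ∀ v : ↥A ⧸ M.subgroupOf A, v ^ E = 1 := by
    intro v
    induction v using QuotientGroup.induction_on with
    | H a =>
      rw [← QuotientGroup.mk_pow, QuotientGroup.eq_one_iff, Subgroup.mem_subgroupOf]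
      simpa using hE (a : P) a.2
  obtain ⟨β, hβdef⟩ : ∃ β : MulAut (↥A ⧸ M.subgroupOf A), β = quotAut (resAut α A hA) (M.subgroupOf A) hM₁ :=
    ⟨_, rfl⟩
  have hβp : β ^ p = 1 := by
    rw [hβdef]
    exact quotAut_pow_eq_one _ _ hM₁ p (resAut_pow_eq_one α A hA p hα)
  have hβfix : Nat.card (fixSub β) ≤ p ^ n := by
    rw [hβdef]
    exact (card_fix_quotAut_le _ _ hM₁).trans ((card_fix_resAut_le α A hA).trans hfix)
  by_cases h1 : Nat.card (↥A ⧸ M.subgroupOf A) = 1
  · rw [h1]; exact Nat.one_le_pow _ _ hE0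
  · -- `p ≤ E`
    have hpE : p ≤ E := by
      have hnt : Nontrivial (↥A ⧸ M.subgroupOf A) := by
        apply (Finite.one_lt_card_iff_nontrivial).mp
        have hpos : 0 < Nat.card (↥A ⧸ M.subgroupOf A) := Nat.card_pos
        omega
      obtain ⟨v, hv⟩ := exists_ne (1 : ↥A ⧸ M.subgroupOf A)
      obtain ⟨k, hk⟩ := (IsPGroup.iff_orderOf.mp hV) v
      have hdvd : orderOf v ∣ E := orderOf_dvd_of_pow_eq_one (hexp v)
      have hk0 : k ≠ 0 := by
        intro h0
        rw [h0, pow_zero, orderOf_eq_one_iff] at hk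
        exact hv hk
      have : p ∣ E := by
        have h2 : p ∣ p ^ k := dvd_pow_self p hk0
        rw [← hk] at h2
        exact h2.trans hdvd
      exact Nat.le_of_dvd hE0 this
    by_cases hβ1 : β = 1
    · have htop : fixSub β = ⊤ := by
        ext v
        simp [mem_fixSub, hβ1]
      rw [htop, Subgroup.card_top] at hβfix
      calc Nat.card (↥A ⧸ M.subgroupOf A) ≤ p ^ n := hβfix
        _ ≤ E ^ n := Nat.pow_le_pow_left hpE n
        _ ≤ E ^ (p * n) := Nat.pow_le_pow_right hE0 (Nat.le_mul_of_pos_left n hpp.pos)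
    · have hβo : orderOf β = p := orderOf_eq_prime hβp hβ1
      obtain ⟨n', hn'⟩ := IsPGroup.iff_card.mp (hV.to_subgroup (fixSub β))
      have hn'n : n' ≤ n := by
        rw [hn'] at hβfix
        exact (Nat.pow_le_pow_iff_right hpp.one_lt).mp hβfix
      obtain ⟨S, hS1, hS2⟩ := Cfsg.Agent.S3780.result hV β hβo n' (by rw [← card_fixSub]; exact hn')
      calc Nat.card (↥A ⧸ M.subgroupOf A) ≤ E ^ S.card := card_le_of_gen S hS2 E hE0 hexp
        _ ≤ E ^ (p * n') := Nat.pow_le_pow_right hE0 hS1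
        _ ≤ E ^ (p * n) := Nat.pow_le_pow_right hE0 (Nat.mul_le_mul_left p hn'n)

end Cfsg.Agent.Helper27.ALP
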