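import Mathlib
import Cfsg.Agent.Lib.ALP.ALPDefs
import Cfsg.Agent.Lib.ALP.ALPG4
import Cfsg.Agent.Lib.ALP.ALPR2
import Cfsg.Agent.Lib.Helper22.LCSLieBasic

/-! S3782 piece ALP-A1: for `w > alpH p`, `|γ_w(P) : γ_{w+1}(P)| ≤ p^(alpB p n)`.
Proof: `section_card_le` with `A := Gam P w`, `M := Gam P (w+1)`, `E := p^(alpH p + 1 + n)`:
`hMA` = `gam_anti`; `Inv` from `inv_of_char` (`Gam P k = (⊤ : Subgroup P).lowerCentralSeries (k-1)` is characteristic: `unfold Gam; infer_instance`);
`hab`: `gam_comm_le w w` and `gam_anti` (`w + 1 ≤ w + w` since `w ≥ 1`); `hE` = `pow_mem_gam`;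
finally `(p^(alpH p+1+n))^(p*n) = p^(alpB p n)` (`pow_mul`, `alpB`). -/

set_option autoImplicit false
set_option linter.unusedSectionVars false
set_option linter.unusedVariables false
set_option linter.style.haveILetI false

namespace Cfsg.Agent.Helper27.ALP

open Cfsg.Agent.Helper22.LCSLie

theorem gam_index_le {P : Type*} [Group P] [Finite P] {p : ℕ} [Fact p.Prime] (hP : IsPGroup p P)
    (α : MulAut P) (hα : α ^ p = 1) (n : ℕ) (hfix : Nat.card (fixSub α) ≤ p ^ n) (w : ℕ)
    (hw : alpH p + 1 ≤ w) :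
    (Cfsg.Agent.Helper22.LCSLie.Gam P (w + 1)).relIndex (Cfsg.Agent.Helper22.LCSLie.Gam P w) ≤ p ^ alpB p n := by
  have hchar : ∀ k : ℕ, (Gam P k).Characteristic := by
    intro k
    unfold Gam
    infer_instance
  have hA : Inv α (Gam P w) := by
    have := hchar w
    exact inv_of_char α (Gam P w)
  have hM : Inv α (Gam P (w + 1)) := by
    have := hchar (w + 1)
    exact inv_of_char α (Gam P (w + 1))
  have hab : ⁅Gam P w, Gam P w⁆ ≤ Gam P (w + 1) :=
    (gam_comm_le w w).trans (gam_anti (by omega))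
  have hp0 : 0 < p := (Fact.out : p.Prime).pos
  have h1 := section_card_le hP α hα n hfix (Gam P w) (Gam P (w + 1)) (gam_anti (Nat.le_succ w))
    hA hM hab (p ^ (alpH p + 1 + n)) (pow_pos hp0 _) (pow_mem_gam hP α hα n hfix w hw)
  have e : (p ^ (alpH p + 1 + n)) ^ (p * n) = p ^ alpB p n := by
    rw [← pow_mul]
    rfl
  rw [e] at h1
  exact h1

end Cfsg.Agent.Helper27.ALP
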