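import Mathlib
import Cfsg.Agent.Lib.ALP.ALPDefs
import Cfsg.Agent.Lib.ALP.ALPA1
import Cfsg.Agent.Lib.ALP.ALPT1
import Cfsg.Agent.S3781

/-! S3782 piece ALP-A2: `N := γ_{B+1}(P)` (`B = alpB p n`) has class `≤ alpH p + 1`.
Proof: by contradiction assume `N.lowerCentralSeries (h+1) ≠ ⊥` (`h = alpH p ≥ 1`, `alpH_pos`).
`Cfsg.Agent.S3781.result hP (B+1) _ N le_rfl (h+1) _ hne` gives `p^(B+1) ≤ (N.lowerCentralSeries (h+1)).relIndex (N.lowerCentralSeries h)`.
On the other hand `N` is characteristic (`Inv α N` by `inv_of_char`), `α' := resAut α N _` has `α'^p = 1` and `≤ p^n` fixed points (ALP-T1),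
`↥N` is a `p`-group, so `gam_index_le` for `↥N` with `w := h+1`: `(Gam ↥N (h+2)).relIndex (Gam ↥N (h+1)) ≤ p^B`.
`Gam ↥N (k+1) = (⊤ : Subgroup ↥N).lowerCentralSeries k` (rfl/`Gam`), `((⊤ : Subgroup ↥N).lowerCentralSeries k).map N.subtype = N.lowerCentralSeries k`
(`Subgroup.top_subtype_lowerCentralSeries`), and `relIndex` is preserved by the injective `N.subtype`
(`Subgroup.relIndex_map_map_of_injective` or via `Subgroup.relIndex`, `Subgroup.index`, `Subgroup.card_mul_index` counting). So `p^(B+1) ≤ p^B`, contradiction. -/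

set_option autoImplicit false
set_option linter.unusedSectionVars false
set_option linter.unusedVariables false
set_option linter.style.haveILetI false

namespace Cfsg.Agent.Helper27.ALP

theorem pgroup_class {P : Type*} [Group P] [Finite P] {p : ℕ} [Fact p.Prime] (hP : IsPGroup p P)
    (α : MulAut P) (hα : α ^ p = 1) (n : ℕ) (hfix : Nat.card (fixSub α) ≤ p ^ n) :
    ((⊤ : Subgroup P).lowerCentralSeries (alpB p n)).lowerCentralSeries (alpH p + 1) = ⊥ := by
  have hp : p.Prime := Fact.out
  by_contra hne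
  have hh : 1 ≤ alpH p := alpH_pos p hp.two_le
  -- lower bound from S3781
  have h1 := Cfsg.Agent.S3781.result hP (alpB p n + 1) (by omega)
    ((⊤ : Subgroup P).lowerCentralSeries (alpB p n)) (by rw [Nat.add_sub_cancel]) (alpH p + 1)
    (by omega) hne
  rw [Nat.add_sub_cancel] at h1
  -- upper bound from `gam_index_le` inside `N`
  have hInv : Inv α ((⊤ : Subgroup P).lowerCentralSeries (alpB p n)) :=
    inv_of_char α _
  have hα' : (resAut α ((⊤ : Subgroup P).lowerCentralSeries (alpB p n)) hInv) ^ p = 1 :=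
    resAut_pow_eq_one α _ hInv p hα
  have hfix' : Nat.card (fixSub (resAut α ((⊤ : Subgroup P).lowerCentralSeries (alpB p n)) hInv)) ≤
      p ^ n := (card_fix_resAut_le α _ hInv).trans hfix
  have h2 := gam_index_le (hP.to_subgroup ((⊤ : Subgroup P).lowerCentralSeries (alpB p n)))
    (resAut α ((⊤ : Subgroup P).lowerCentralSeries (alpB p n)) hInv) hα' n hfix' (alpH p + 1)
    (le_refl _)
  have h3 : (Cfsg.Agent.Helper22.LCSLie.Gam
        ↥((⊤ : Subgroup P).lowerCentralSeries (alpB p n)) (alpH p + 1 + 1)).relIndex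
      (Cfsg.Agent.Helper22.LCSLie.Gam ↥((⊤ : Subgroup P).lowerCentralSeries (alpB p n))
        (alpH p + 1)) =
      (((⊤ : Subgroup P).lowerCentralSeries (alpB p n)).lowerCentralSeries (alpH p + 1)).relIndex
        (((⊤ : Subgroup P).lowerCentralSeries (alpB p n)).lowerCentralSeries (alpH p)) := by
    rw [← Subgroup.top_subtype_lowerCentralSeries _ (alpH p + 1),
      ← Subgroup.top_subtype_lowerCentralSeries _ (alpH p),
      Subgroup.relIndex_map_map_of_injective _ _ (Subgroup.subtype_injective _)]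
    rfl
  rw [h3] at h2
  have h4 : p ^ (alpB p n + 1) ≤ p ^ alpB p n := h1.trans h2
  have h5 := (Nat.pow_le_pow_iff_right hp.one_lt).mp h4
  omega

end Cfsg.Agent.Helper27.ALP
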