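import Mathlib
import Cfsg.Agent.Lib.ALP.ALPDefs
import Cfsg.Agent.Lib.ALP.ALPA2

/-! S3782 piece ALP-A3: a finite `p`-group with an automorphism `α`, `α^p = 1`, with at most `p^n` fixed points has derived length `≤ alpA p n`.
Proof: `N := (⊤ : Subgroup P).lowerCentralSeries B`, `B = alpB p n`.  `derivedSeries P B ≤ N` (`Subgroup.derived_le_lower_central`).
By induction on `j`: `derivedSeries P (B + j) ≤ N.lowerCentralSeries j`: step `derivedSeries P (B+j+1) = ⁅D, D⁆` with `D = derivedSeries P (B+j)`,
`D ≤ N.lowerCentralSeries j` and `D ≤ derivedSeries P B ≤ N` (`derivedSeries_antitone`), `Subgroup.commutator_mono`, `Subgroup.lowerCentralSeries_succ`.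
With `j = alpH p + 1` and `pgroup_class`: `derivedSeries P (alpA p n) = ⊥` (`alpA p n = B + (alpH p + 1)`). -/

set_option autoImplicit false
set_option linter.unusedSectionVars false
set_option linter.unusedVariables false
set_option linter.style.haveILetI false

namespace Cfsg.Agent.Helper27.ALP

theorem pgroup_dl {P : Type*} [Group P] [Finite P] {p : ℕ} [Fact p.Prime] (hP : IsPGroup p P)
    (α : MulAut P) (hα : α ^ p = 1) (n : ℕ) (hfix : Nat.card (fixSub α) ≤ p ^ n) :
    derivedSeries P (alpA p n) = ⊥ := by
  have hcl := pgroup_class hP α hα n hfix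
  set N : Subgroup P := (⊤ : Subgroup P).lowerCentralSeries (alpB p n) with hN
  have hBN : derivedSeries P (alpB p n) ≤ N := Subgroup.derived_le_lower_central (alpB p n)
  have key : ∀ j : ℕ, derivedSeries P (alpB p n + j) ≤ N.lowerCentralSeries j := by
    intro j
    induction j with
    | zero => simpa using hBN
    | succ j ih =>
      have h1 : derivedSeries P (alpB p n + j) ≤ N :=
        le_trans (derivedSeries_antitone P (Nat.le_add_right _ _)) hBN
      have h2 : derivedSeries P (alpB p n + (j + 1)) =
          ⁅derivedSeries P (alpB p n + j), derivedSeries P (alpB p n + j)⁆ := by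
        rw [← Nat.add_assoc]; rfl
      rw [h2, Subgroup.lowerCentralSeries_succ]
      exact Subgroup.commutator_mono ih h1
  have h3 := key (alpH p + 1)
  rw [hcl] at h3
  have h4 : alpA p n = alpB p n + (alpH p + 1) := rfl
  rw [h4]
  exact le_bot_iff.mp h3

end Cfsg.Agent.Helper27.ALP
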