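import Mathlib
import Cfsg.Agent.Lib.ALP.ALPDefs
import Cfsg.Agent.S3779

/-! S3782 piece ALP-B1: a finite group with a fixed-point-free automorphism `α`, `α^p = 1`, has derived length `≤ alpH p`.
Proof: if `α = 1` every `g` is fixed, so `K` is trivial and every subgroup is `⊥` (`Subsingleton`).  Otherwise `orderOf α = p`
(`orderOf_eq_prime hα`), `(Cfsg.Agent.S3779.result hp α _ hfpf).2.2` gives `(⊤ : Subgroup K).lowerCentralSeries (alpH p) = ⊥`
(`alpH` unfolds to the same sum: `Cfsg.Agent.Helper23.HKK.hk`), and `Subgroup.derived_le_lower_central`. -/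

set_option autoImplicit false
set_option linter.unusedSectionVars false
set_option linter.unusedVariables false
set_option linter.style.haveILetI false

namespace Cfsg.Agent.Helper27.ALP

theorem pprime_dl {K : Type*} [Group K] [Finite K] {p : ℕ} (hp : p.Prime) (α : MulAut K)
    (hα : α ^ p = 1) (hfpf : ∀ g : K, α g = g → g = 1) : derivedSeries K (alpH p) = ⊥ := by
  by_cases h1 : α = 1
  · have hsub : Subsingleton K := by
      refine ⟨fun a b => ?_⟩
      have ha : a = 1 := hfpf a (by rw [h1]; rfl)
      have hb : b = 1 := hfpf b (by rw [h1]; rfl)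
      rw [ha, hb]
    exact Subsingleton.elim _ _
  · have hord : orderOf α = p := by
      haveI : Fact p.Prime := ⟨hp⟩
      exact orderOf_eq_prime hα h1
    have h2 := (Cfsg.Agent.S3779.result hp α hord hfpf).2.2
    have h3 : (⊤ : Subgroup K).lowerCentralSeries (alpH p) = ⊥ := h2
    rw [eq_bot_iff, ← h3]
    exact Subgroup.derived_le_lower_central (alpH p)

end Cfsg.Agent.Helper27.ALP
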