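import Mathlib
import Cfsg.Agent.Lib.ALP.ALPDefs

/-! S3782 piece ALP-C1: derived length of an extension; derived length of a solvable group of bounded order.
`dl_ext`: `(derivedSeries G a).map (mk' N) = derivedSeries (G ⧸ N) a = ⊥` (`map_derivedSeries_eq` / `derivedSeries_le_map_derivedSeries` with
`QuotientGroup.mk'_surjective`), so `derivedSeries G a ≤ N` (`QuotientGroup.ker_mk'`); then by induction on `j`:
`derivedSeries G (a + j) ≤ (derivedSeries ↥N j).map N.subtype` (`Subgroup.map_commutator`, `Subgroup.commutator_mono`).
`dl_of_card_le`: by induction on `k`: `derivedSeries X k = ⊥ ∨ Nat.card (derivedSeries X k) + k ≤ Nat.card X`; in the step, if `D = derivedSeries X k ≠ ⊥`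
then `⁅D, D⁆ < D` (else the derived series is constant `= D ≠ ⊥` from `k` on, contradicting `hX.solvable`), so the cardinality drops
(`Subgroup.card_lt_card_of_lt`/`Set.ncard_lt_ncard`); at `k = m`: `Nat.card _ ≥ 1` gives a contradiction with `h`. -/

set_option autoImplicit false
set_option linter.unusedSectionVars false
set_option linter.unusedVariables false
set_option linter.style.haveILetI false

namespace Cfsg.Agent.Helper27.ALP

theorem dl_ext {G : Type*} [Group G] (N : Subgroup G) [N.Normal] (a b : ℕ)
    (ha : derivedSeries (G ⧸ N) a = ⊥) (hb : derivedSeries ↥N b = ⊥) : derivedSeries G (a + b) = ⊥ := by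
  have h1 : derivedSeries G a ≤ N := by
    have hmap := map_derivedSeries_eq (f := QuotientGroup.mk' N) (QuotientGroup.mk'_surjective N) a
    rw [ha] at hmap
    have := (Subgroup.map_eq_bot_iff _).mp hmap
    rwa [QuotientGroup.ker_mk'] at this
  have h2 : ∀ j : ℕ, derivedSeries G (a + j) ≤ (derivedSeries ↥N j).map N.subtype := by
    intro j
    induction j with
    | zero =>
      rw [derivedSeries_zero, ← MonoidHom.range_eq_map, Subgroup.range_subtype]
      simpa using h1
    | succ j ih =>
      rw [← add_assoc, derivedSeries_succ, derivedSeries_succ, Subgroup.map_commutator]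
      exact Subgroup.commutator_mono ih ih
  have := h2 b
  rw [hb, Subgroup.map_bot] at this
  exact le_bot_iff.mp this

theorem dl_of_card_le {X : Type*} [Group X] [Finite X] (hX : Group.IsSolvable X) (m : ℕ)
    (h : Nat.card X ≤ m) : derivedSeries X m = ⊥ := by
  have key : ∀ k : ℕ, derivedSeries X k = ⊥ ∨ Nat.card (derivedSeries X k) + k ≤ Nat.card X := by
    intro k
    induction k with
    | zero =>
      right
      rw [derivedSeries_zero, Subgroup.card_top]
      omega
    | succ k ih =>
      rcases ih with h0 | h0
      · left
        rw [derivedSeries_succ, h0]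
        exact le_bot_iff.mp (Subgroup.commutator_le_left _ _)
      · by_cases hD : derivedSeries X k = ⊥
        · left
          rw [derivedSeries_succ, hD]
          exact le_bot_iff.mp (Subgroup.commutator_le_left _ _)
        · right
          have hlt : ⁅derivedSeries X k, derivedSeries X k⁆ < derivedSeries X k :=
            Group.IsSolvable.commutator_lt_of_ne_bot hD
          have hle := Subgroup.card_le_of_le (le_of_lt hlt)
          have hne : Nat.card ↥⁅derivedSeries X k, derivedSeries X k⁆ ≠ Nat.card ↥(derivedSeries X k) := by
            intro heq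
            have := Subgroup.eq_of_le_of_card_ge (le_of_lt hlt) (le_of_eq heq.symm)
            exact (ne_of_lt hlt) this
          rw [derivedSeries_succ]
          omega
  rcases key m with h0 | h0
  · exact h0
  · exfalso
    have hpos : 0 < Nat.card ↥(derivedSeries X m) := Nat.card_pos
    omega

end Cfsg.Agent.Helper27.ALP
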