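import Mathlib
import Cfsg.Agent.Lib.ALP.ALPDefs
import Cfsg.Agent.Lib.ALP.ALPR2
import Cfsg.Agent.Lib.ALP.ALPT1
import Cfsg.Agent.Lib.Helper12.FrattiniAct
import Cfsg.Agent.Lib.Helper16.Solvable2
import Cfsg.Agent.Lib.Helper7.Cores

/-! S3782 piece ALP-C3 (size L): `|X / O_p(X)| ≤ (p^(pn))!` for solvable `X` with `O_{p'}(X) = 1`.
Proof: `Q := Cfsg.pCore p X`: a `p`-group (`Cfsg.Agent.Helper14.pCore_isPGroup`), characteristic (`Cfsg.Agent.Helper7.pCore_characteristic`),
so `Inv α Q` (`inv_of_char`); `β := resAut α Q _`, `β^p = 1`, `≤ p^n` fixed points (ALP-T1).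
`section_card_le` in the group `↥Q` with `A := ⊤`, `M := frattini ↥Q` (characteristic: `frattini_characteristic`, normal), `E := p`,
`hab`, `hE` from `Cfsg.Agent.S0012.result p hQp` (`commutator ↥Q ≤ frattini ↥Q`, `x^p ∈ frattini ↥Q`): `(frattini ↥Q).relIndex ⊤ ≤ p^(p*n)`,
i.e. `Nat.card (↥Q ⧸ frattini ↥Q) ≤ p^(p*n)` (`Subgroup.relIndex_top_right`, `Subgroup.index_eq_card`).
`C_X(Q) ≤ Q` (`Cfsg.Agent.Helper16.centralizer_pCore_le_of_isSolvable p hX hO`), so `(rho Q).ker = Q`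
(`Cfsg.Agent.Helper12.FA.ker_rho_le`, `le_ker_rho`), so `X ⧸ Q` injects into `MulAut (↥Q ⧸ frattini ↥Q)` (`QuotientGroup.kerLift_injective` after rewriting the kernel,
or directly `QuotientGroup.lift`), which injects into `Equiv.Perm _` (`MulEquiv.toEquiv`); `Nat.card (Equiv.Perm V) = (Nat.card V)!`
(`Fintype.card_perm`/`Nat.card_perm`), `Nat.factorial_le`. -/

set_option autoImplicit false
set_option linter.unusedSectionVars false
set_option linter.unusedVariables false
set_option linter.style.haveILetI false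

namespace Cfsg.Agent.Helper27.ALP

theorem quot_pCore_card_le {X : Type*} [Group X] [Finite X] {p : ℕ} [Fact p.Prime]
    (hX : Group.IsSolvable X) (hO : Cfsg.pPrimeCore p X = ⊥) (α : MulAut X) (hα : α ^ p = 1) (n : ℕ)
    (hfix : Nat.card (fixSub α) ≤ p ^ n) :
    Nat.card (X ⧸ Cfsg.pCore p X) ≤ alpF p n := by
  have hp : p.Prime := Fact.out
  haveI hQchar : (Cfsg.pCore p X).Characteristic := Cfsg.Agent.Helper7.pCore_characteristic p
  have hQp : IsPGroup p ↥(Cfsg.pCore p X) := Cfsg.Agent.Helper14.pCore_isPGroup p X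
  have hQinv : Inv α (Cfsg.pCore p X) := inv_of_char α (Cfsg.pCore p X)
  have hβ : (resAut α (Cfsg.pCore p X) hQinv) ^ p = 1 :=
    resAut_pow_eq_one α (Cfsg.pCore p X) hQinv p hα
  have hfixβ : Nat.card (fixSub (resAut α (Cfsg.pCore p X) hQinv)) ≤ p ^ n :=
    le_trans (card_fix_resAut_le α (Cfsg.pCore p X) hQinv) hfix
  have h12 := Cfsg.Agent.S0012.result (G := ↥(Cfsg.pCore p X)) p hQp
  haveI hΦn : (frattini ↥(Cfsg.pCore p X)).Normal := inferInstance
  -- the Frattini quotient of `O_p(X)` has order at most `p^(p*n)`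
  have hsec : (frattini ↥(Cfsg.pCore p X)).relIndex ⊤ ≤ p ^ (p * n) := by
    apply section_card_le hQp (resAut α (Cfsg.pCore p X) hQinv) hβ n hfixβ ⊤
      (frattini ↥(Cfsg.pCore p X)) le_top
    · intro x
      exact ⟨fun _ => Subgroup.mem_top _, fun _ => Subgroup.mem_top _⟩
    · exact inv_of_char _ _
    · have h1 := h12.1
      rw [commutator_def] at h1
      exact h1
    · exact hp.pos
    · intro x _
      exact h12.2 x
  rw [Subgroup.relIndex_top_right] at hsec
  have hV : Nat.card (↥(Cfsg.pCore p X) ⧸ frattini ↥(Cfsg.pCore p X)) ≤ p ^ (p * n) := hsec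
  -- the kernel of the action on the Frattini quotient is `O_p(X)`
  have hCQ : Subgroup.centralizer (Cfsg.pCore p X : Set X) ≤ Cfsg.pCore p X :=
    Cfsg.Agent.Helper16.centralizer_pCore_le_of_isSolvable p hX hO
  have hker : (Cfsg.Agent.Helper12.FA.rho (Cfsg.pCore p X)).ker = Cfsg.pCore p X :=
    le_antisymm (Cfsg.Agent.Helper12.FA.ker_rho_le hCQ) Cfsg.Agent.Helper12.FA.le_ker_rho
  have h1 : Nat.card (X ⧸ Cfsg.pCore p X) =
      Nat.card ↥(Cfsg.Agent.Helper12.FA.rho (Cfsg.pCore p X)).range := by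
    have h2 := Subgroup.index_ker (Cfsg.Agent.Helper12.FA.rho (Cfsg.pCore p X))
    rw [hker] at h2
    exact h2
  have h3 : Nat.card ↥(Cfsg.Agent.Helper12.FA.rho (Cfsg.pCore p X)).range ≤
      Nat.card (MulAut (↥(Cfsg.pCore p X) ⧸ frattini ↥(Cfsg.pCore p X))) :=
    Nat.card_le_card_of_injective _ Subtype.val_injective
  have h4 : Nat.card (MulAut (↥(Cfsg.pCore p X) ⧸ frattini ↥(Cfsg.pCore p X))) ≤
      Nat.card (Equiv.Perm (↥(Cfsg.pCore p X) ⧸ frattini ↥(Cfsg.pCore p X))) :=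
    Nat.card_le_card_of_injective (fun e => e.toEquiv) MulEquiv.toEquiv_injective
  rw [Nat.card_perm] at h4
  unfold alpF
  rw [h1]
  exact le_trans h3 (le_trans h4 (Nat.factorial_le hV))

end Cfsg.Agent.Helper27.ALP
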