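import Mathlib
import Cfsg.Agent.Lib.ALP.ALPDefs
import Cfsg.Agent.Lib.ALP.ALPT1
import Cfsg.Agent.Lib.ALP.ALPT2
import Cfsg.Agent.Lib.ALP.ALPA3
import Cfsg.Agent.Lib.ALP.ALPB1
import Cfsg.Agent.Lib.ALP.ALPC1
import Cfsg.Agent.Lib.ALP.ALPC3
import Cfsg.Agent.Lib.Helper7.Cores
import Cfsg.Agent.Lib.Helper9.PPrimeCoreSub
import Cfsg.Agent.Lib.Helper22.PPrimeCore
import Cfsg.Agent.Lib.Helper14.Basic

/-! S3782: global assembly (helper27). -/

set_option autoImplicit false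
set_option linter.unusedSectionVars false
set_option linter.unusedVariables false
set_option linter.style.haveILetI false

namespace Cfsg.Agent.Helper27.ALP

theorem alp_main {G : Type*} [Group G] [Finite G] {p : ℕ} (hp : p.Prime) (hG : Group.IsSolvable G)
    (α : MulAut G) (hα : orderOf α = p) (n : ℕ) (hfix : Nat.card {g : G // α g = g} = p ^ n) :
    derivedSeries G (alpL p n) = ⊥ := by
  haveI : Fact p.Prime := ⟨hp⟩
  have hαp : α ^ p = 1 := by rw [← hα]; exact pow_orderOf_eq_one α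
  have hfix' : Nat.card (fixSub α) = p ^ n := hfix
  -- the `p'`-core
  haveI hKc : (Cfsg.pPrimeCore p G).Characteristic := Cfsg.Agent.Helper7.pPrimeCore_characteristic p
  have hKinv : Inv α (Cfsg.pPrimeCore p G) := inv_of_char α _
  have hKcop : (Nat.card (Cfsg.pPrimeCore p G)).Coprime p := Cfsg.Agent.Helper22.card_pPrimeCore_coprime p
  have h1 : derivedSeries ↥(Cfsg.pPrimeCore p G) (alpH p) = ⊥ := by
    apply pprime_dl hp (resAut α _ hKinv) (resAut_pow_eq_one α _ hKinv p hαp)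
    intro g hg
    have hg' : α (g : G) = g := by
      rw [← resAut_apply α _ hKinv g, hg]
    have ho1 : orderOf (g : G) ∣ p ^ n := by
      have h := orderOf_dvd_natCard (⟨(g : G), hg'⟩ : fixSub α)
      rw [hfix'] at h
      rwa [← Subgroup.orderOf_coe] at h
    have ho2 : orderOf (g : G) ∣ Nat.card (Cfsg.pPrimeCore p G) := by
      rw [Subgroup.orderOf_coe]
      exact orderOf_dvd_natCard g
    have ho3 : orderOf (g : G) = 1 :=
      Nat.eq_one_of_dvd_coprimes (Nat.Coprime.pow_right n hKcop) ho2 ho1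
    have := orderOf_eq_one_iff.1 ho3
    exact Subtype.ext this
  -- the quotient
  have hαb : (quotAut α _ hKinv) ^ p = 1 := quotAut_pow_eq_one α _ hKinv p hαp
  have hfixb : Nat.card (fixSub (quotAut α _ hKinv)) ≤ p ^ n :=
    (card_fix_quotAut_le α _ hKinv).trans hfix'.le
  have hGb : Group.IsSolvable (G ⧸ Cfsg.pPrimeCore p G) := inferInstance
  have hOb : Cfsg.pPrimeCore p (G ⧸ Cfsg.pPrimeCore p G) = ⊥ :=
    Cfsg.Agent.Helper9.pPrimeCore_quotient_eq_bot p
  -- `O_p` of the quotient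
  haveI hQc : (Cfsg.pCore p (G ⧸ Cfsg.pPrimeCore p G)).Characteristic :=
    Cfsg.Agent.Helper7.pCore_characteristic p
  have hQinv : Inv (quotAut α _ hKinv) (Cfsg.pCore p (G ⧸ Cfsg.pPrimeCore p G)) := inv_of_char _ _
  have hQp : IsPGroup p ↥(Cfsg.pCore p (G ⧸ Cfsg.pPrimeCore p G)) :=
    Cfsg.Agent.Helper14.pCore_isPGroup p _
  have h3 : derivedSeries ↥(Cfsg.pCore p (G ⧸ Cfsg.pPrimeCore p G)) (alpA p n) = ⊥ :=
    pgroup_dl hQp (resAut _ _ hQinv) (resAut_pow_eq_one _ _ hQinv p hαb) n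
      ((card_fix_resAut_le _ _ hQinv).trans hfixb)
  have h4card := quot_pCore_card_le hGb hOb (quotAut α _ hKinv) hαb n hfixb
  have h4 : derivedSeries ((G ⧸ Cfsg.pPrimeCore p G) ⧸ Cfsg.pCore p (G ⧸ Cfsg.pPrimeCore p G))
      (alpF p n) = ⊥ := dl_of_card_le inferInstance _ h4card
  have h5 : derivedSeries (G ⧸ Cfsg.pPrimeCore p G) (alpF p n + alpA p n) = ⊥ :=
    dl_ext _ _ _ h4 h3
  exact dl_ext _ _ _ h5 h1

end Cfsg.Agent.Helper27.ALP
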